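import Cfsg.Agent.H300.RIM.RuCov
import Cfsg.Agent.H325.RIM.Base
import Cfsg.Agent.J3Type.CharTools
import Cfsg.Agent.SporadicA.M11CharBasic

/-!
# S4816, the rows (Ru, 3) and (Ru, 5) (helper300)

* `nball_three` : the number 25 of the faithful characters of `2.Ru` is not divisible by 3;
* `nball_five` : if all degrees are prime to 5, the values `a` at `5B` and `b` at `15A` satisfy `2 ∣ a`, `3 ∣ a - b` and
  `a ≠ 0`, hence `a ^ 2 - 2 * a * b + 28 * b ^ 2 ≥ 36`; the sum of these numbers is `300 + 28 * 15 = 720 < 36 * 25`.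
-/

set_option autoImplicit false
set_option maxRecDepth 100000
set_option exponentiation.threshold 5000

namespace Cfsg.Agent.H300.RIM

open Cfsg Cfsg.Spor Cfsg.Agent.SporadicB Cfsg.Agent.SporadicB.RuOrder Cfsg.Agent.H300 Cfsg.Agent.H300.Ru
open Cfsg.Agent.H289.Eight.RuDeg
open Cfsg.Agent.H622.Over Cfsg.Agent.H382.RIM Cfsg.Agent.H665.RIM Cfsg.Agent.Characters.Core
open scoped ComplexConjugate

section
variable {E : Type} [Group E] [Finite E] {π : E →* H}

theorem exists_odd_lift (hπ : Function.Surjective π) (hc : π.ker ≤ Subgroup.center E) (h2 : Nat.card π.ker = 2)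
    {h : H} {n : ℕ} (hn : n % 2 = 1) (hh : h ^ n = 1) : ∃ g : E, π g = h ∧ g ^ n = 1 := by
  obtain ⟨g, rfl⟩ := hπ h
  have h3 : g ^ n ∈ π.ker := by rw [MonoidHom.mem_ker, map_pow, hh]
  have h4 : (⟨g ^ n, h3⟩ : π.ker) ^ 2 = 1 := by
    rw [← h2]
    exact pow_card_eq_one'
  have h5 : (g ^ n) ^ 2 = 1 := congrArg Subtype.val h4
  refine ⟨g ^ (n + 1), ?_, ?_⟩
  · rw [map_pow, pow_succ, hh, one_mul]
  · obtain ⟨m, hm⟩ : ∃ m, n + 1 = 2 * m := ⟨(n + 1) / 2, by omega⟩
    rw [hm, ← pow_mul, mul_comm, ← mul_assoc, mul_comm n 2, mul_comm 2 n, pow_mul, pow_mul, h5, one_pow]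

theorem conj_of_conj (hπ : Function.Surjective π) (hc : π.ker ≤ Subgroup.center E) (h2 : Nat.card π.ker = 2)
    {g g' : E} {n : ℕ} (hn : n % 2 = 1) (hg : g ^ n = 1) (hg' : g' ^ n = 1) (h : IsConj (π g) (π g')) :
    IsConj g g' := by
  obtain ⟨c, hcc⟩ := isConj_iff.1 h
  obtain ⟨x, rfl⟩ := hπ c
  rw [isConj_iff]
  refine ⟨x, ?_⟩
  have h3 : g'⁻¹ * (x * g * x⁻¹) ∈ π.ker := by
    rw [MonoidHom.mem_ker, map_mul, map_mul, map_mul, map_inv, map_inv, hcc, inv_mul_cancel]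
  set z := g'⁻¹ * (x * g * x⁻¹) with hz
  have h4 : x * g * x⁻¹ = g' * z := by rw [hz]; group
  have h5 : (g' * z) ^ n = 1 := by rw [← h4, conj_pow, hg, mul_one, mul_inv_cancel]
  have h6 : Commute g' z := Subgroup.mem_center_iff.1 (hc h3) g'
  rw [h6.mul_pow, hg', one_mul] at h5
  have h7 : (⟨z, h3⟩ : π.ker) ^ 2 = 1 := by
    rw [← h2]
    exact pow_card_eq_one'
  have h8 : z ^ 2 = 1 := congrArg Subtype.val h7
  have h9 : z = 1 := by
    obtain ⟨m, hm⟩ : ∃ m, n = 2 * m + 1 := ⟨n / 2, by omega⟩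
    rwa [hm, pow_succ, pow_mul, h8, one_pow, one_mul] at h5
  rw [h4, h9, mul_one]

theorem card_cent_le (hc : π.ker ≤ Subgroup.center E) (g : E) :
    Nat.card (Subgroup.centralizer ({g} : Set E)) ≤
      Nat.card π.ker * Nat.card (Subgroup.centralizer ({π g} : Set H)) := by
  have := finite_H
  let f : Subgroup.centralizer ({g} : Set E) →* Subgroup.centralizer ({π g} : Set H) :=
    (π.comp (Subgroup.centralizer ({g} : Set E)).subtype).codRestrict _ (by
      intro x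
      rw [Subgroup.mem_centralizer_singleton_iff]
      have h := Subgroup.mem_centralizer_singleton_iff.1 x.2
      change π x * π g = π g * π x
      rw [← map_mul, ← map_mul, h])
  rw [Subgroup.card_eq_card_quotient_mul_card_subgroup f.ker, mul_comm]
  refine Nat.mul_le_mul ?_ ?_
  · refine Nat.card_le_card_of_injective (fun x : f.ker => (⟨((x : Subgroup.centralizer ({g} : Set E)) : E), ?_⟩ : π.ker)) ?_
    · have h := x.2
      rw [MonoidHom.mem_ker] at h
      exact congrArg Subtype.val h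
    · intro x y hxy
      exact Subtype.ext (Subtype.ext (congrArg (fun z : π.ker => (z : E)) hxy))
  · rw [Nat.card_congr (QuotientGroup.quotientKerEquivRange f).toEquiv]
    exact Nat.card_le_card_of_injective _ Subtype.val_injective

theorem cent_fam {h : H} {j : Fin 36} (hj : IsConj (Ru.R j) h) :
    Nat.card (Subgroup.centralizer ({h} : Set H)) = (fm (rp j).i).c := by
  refine Cls.card_cent (by rw [card_H]; exact dvd_card j) ?_
  rw [← Ru.main.2 j]
  exact Nat.card_congr (Equiv.subtypeEquivRight fun u => ⟨hj.trans, hj.symm.trans⟩)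

theorem fxOk3 : ∀ j : Fin 36, fx (rp j).i ((rp j).k * 3) = fx (rp j).i 3 := by decide +kernel

theorem fixC_fam3 (h : H) : fixC (h ^ 3) = fx (fam h) 3 := by
  obtain ⟨j, hj⟩ := cover h
  rw [fam_eq hj, ← fixC_conj (hj.pow 3), fixC_R, fxOk3]

theorem order_fam (h : H) : orderOf h = (fm (fam h)).n := by
  obtain ⟨j, hj⟩ := cover h
  rw [← order_conj hj, order_R, fam_eq hj]

theorem fam_pow_coprime {h : H} {k : ℕ} (hk : k.Coprime (orderOf h)) : fam (h ^ k) = fam h := by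
  refine fam_of_key (fam_lt h) ?_ ?_ ?_
  · rw [Nat.Coprime.orderOf_pow hk.symm, order_fam]
  · rw [pow_one, fixC_pow h k _ (pow_orderOf_eq_one h), hk, pow_one, fixC_fam]
  · rw [← pow_mul, fixC_pow h (k * 3) _ (pow_orderOf_eq_one h), Nat.Coprime.gcd_mul_left_cancel 3 hk,
      ← fixC_pow h 3 _ (pow_orderOf_eq_one h), fixC_fam3]

theorem uniq8 : ∀ j : Fin 36, (rp j).i = 8 → j = 8 := by decide +kernel
theorem uniq21 : ∀ j : Fin 36, (rp j).i = 21 → j = 23 := by decide +kernel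

theorem conj8 {h h' : H} (h1 : fam h = 8) (h2 : fam h' = 8) : IsConj h h' := by
  obtain ⟨j, hj⟩ := cover h
  obtain ⟨j', hj'⟩ := cover h'
  rw [fam_eq hj] at h1
  rw [fam_eq hj'] at h2
  rw [uniq8 j h1] at hj
  rw [uniq8 j' h2] at hj'
  exact hj.symm.trans hj'

theorem conj21 {h h' : H} (h1 : fam h = 21) (h2 : fam h' = 21) : IsConj h h' := by
  obtain ⟨j, hj⟩ := cover h
  obtain ⟨j', hj'⟩ := cover h'
  rw [fam_eq hj] at h1
  rw [fam_eq hj'] at h2
  rw [uniq21 j h1] at hj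
  rw [uniq21 j' h2] at hj'
  exact hj.symm.trans hj'

theorem quad {a b : ℤ} (h2 : (2 : ℤ) ∣ a) (h3 : (3 : ℤ) ∣ b - a) (ha : a ≠ 0) : 36 ≤ a ^ 2 - 2 * a * b + 28 * b ^ 2 := by
  obtain ⟨u, hu⟩ : ∃ u : ℤ, a = 4 * b + 6 * u := by
    obtain ⟨c, rfl⟩ := h2
    obtain ⟨d, hd⟩ := h3
    refine ⟨(2 * c - 4 * b) / 6, ?_⟩
    omega
  have h : a ^ 2 - 2 * a * b + 28 * b ^ 2 = 36 * (u ^ 2 + u * b + b ^ 2) := by rw [hu]; ring
  rw [h]
  have h0 : u ^ 2 + u * b + b ^ 2 ≠ 0 := by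
    intro h1
    have h4 : (2 * u + b) ^ 2 + 3 * b ^ 2 = 0 := by linear_combination 4 * h1
    have h5 : b = 0 := by nlinarith [sq_nonneg (2 * u + b), sq_nonneg b, sq_nonneg (b - 1), sq_nonneg (b + 1)]
    have h6 : u = 0 := by
      rw [h5] at h1
      have : u ^ 2 = 0 := by linarith
      exact pow_eq_zero_iff (two_ne_zero) |>.1 this
    apply ha
    rw [hu, h5, h6]
    norm_num
  have h1 : 0 ≤ u ^ 2 + u * b + b ^ 2 := by nlinarith [sq_nonneg (2 * u + b), sq_nonneg b]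
  have h2' : 1 ≤ u ^ 2 + u * b + b ^ 2 := by omega
  linarith

end

section main
variable {E : Type} [Group E] [Finite E] {π : E →* H} {φ : E →* fourRu} {l : π.ker →* ℂˣ}

theorem facts : fam (Ru.R 23) = 21 ∧ fam (Ru.R 15) = 15 ∧ orderOf (Ru.R 23) = 15 ∧ orderOf (Ru.R 15) = 10 := by
  rw [fam_R, fam_R, order_R, order_R]
  decide +kernel

theorem famTwo : P2.getD 15 0 = 8 ∧ P3.getD 21 0 = 8 ∧ (fm 8).n = 5 ∧ (fm (rp 8).i).c = 300 ∧
    (fm (rp 23).i).c = 15 ∧ (rp 8).i = 8 ∧ bad 15 = true := by decide +kernel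

theorem lies_one {f : E → ℂ} (h : Lies π.ker l f) (z : π.ker) : f z = f 1 * l z := by
  have := h 1 z
  rwa [one_mul] at this

theorem vanish (hπ : Function.Surjective π) (hc : π.ker ≤ Subgroup.center E) (hq : ∀ x, q (φ x) = π x)
    (hl : Function.Injective l) {g : E} (hg : Fused (π g)) {χ : IrrCharacter E} (hχ : Lies π.ker l (χ : E → ℂ)) :
    (χ : E → ℂ) g = 0 := by
  have h := not_good (φ := φ) hπ hq hl hg
  unfold Good at h
  push Not at h
  obtain ⟨x, hx, hne⟩ := h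
  exact eq_zero_of_comm (isIrr_isClassFunction χ.2) hχ hx hne

theorem five (hπ : Function.Surjective π) (hc : π.ker ≤ Subgroup.center E) (h2 : Nat.card π.ker = 2)
    (hφ : Function.Injective φ) (hq : ∀ x, q (φ x) = π x) (hl : Function.Injective l)
    (hbad : ∀ χ : IrrCharacter E, Lies π.ker l (χ : E → ℂ) → ¬ 5 ∣ charDegree (χ : E → ℂ)) : False := by
  classical
  obtain ⟨f21, f15, o15, o10⟩ := facts
  obtain ⟨p2, p3, n8, c8, c23, i8, b15⟩ := famTwo
  have hfin := finite_irr (G := E)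
  have := Fintype.ofFinite (IrrCharacter E)
  have := Fintype.ofFinite π.ker
  -- the elements
  obtain ⟨g, hg, hg15⟩ := exists_odd_lift hπ hc h2 (h := Ru.R 23) (n := 15) (by norm_num)
    (by rw [← o15]; exact pow_orderOf_eq_one _)
  obtain ⟨y, hy⟩ := hπ (Ru.R 15)
  have og : orderOf g = 15 := by
    apply Nat.dvd_antisymm (orderOf_dvd_of_pow_eq_one hg15)
    rw [← o15, ← hg]
    exact orderOf_map_dvd π g
  have hx5 : (g ^ 3) ^ 5 = 1 := by rw [← pow_mul]; exact hg15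
  have fx5 : fam (π (g ^ 3)) = 8 := by rw [map_pow, fam_pow3, hg, f21, p3]
  have ox5 : orderOf (g ^ 3) = 5 := by
    rw [orderOf_pow' g (by norm_num), og]
    norm_num
  -- the values
  have hval : ∀ χ : IrrCharacter E, Lies π.ker l (χ : E → ℂ) → ∃ a b : ℤ, (χ : E → ℂ) (g ^ 3) = a ∧
      (χ : E → ℂ) g = b ∧ 36 ≤ a ^ 2 - 2 * a * b + 28 * b ^ 2 := by
    intro χ hχ
    have hch := isIrr_isCharacter χ.2
    obtain ⟨b, hb⟩ := J3Type.CharTools.int_of_conj hch g (by
      intro m hm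
      refine conj_of_conj hπ hc h2 (n := 15) (by norm_num) hg15 (by rw [← pow_mul, mul_comm, pow_mul, hg15, one_pow]) ?_
      rw [map_pow, hg]
      refine conj21 f21 ?_
      rw [fam_pow_coprime (by rw [o15]; rwa [og] at hm), f21])
    obtain ⟨a, ha⟩ := J3Type.CharTools.int_of_conj hch (g ^ 3) (by
      intro m hm
      refine conj_of_conj hπ hc h2 (n := 5) (by norm_num) hx5 (by rw [← pow_mul, mul_comm, pow_mul, hx5, one_pow]) ?_
      rw [map_pow π (g ^ 3)]
      refine conj8 fx5 ?_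
      rw [fam_pow_coprime, fx5]
      have h5 : orderOf (π (g ^ 3)) = 5 := by rw [order_fam, fx5, n8]
      rw [h5]
      rwa [ox5] at hm)
    have h3 : (3 : ℤ) ∣ b - a := J3Type.CharTools.int_congr hch g Nat.prime_three hb ha
    have ha0 : a ≠ 0 := by
      rintro rfl
      have := Fact.mk Nat.prime_five
      refine H424.CentBound.apply_ne_zero (p := 5) hch (Blocks.Basic.irr_one_eq_charDegree χ.2) (hbad χ hχ)
        (g := g ^ 3) (m := 1) (by rw [pow_one]; exact hx5) ?_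
      rw [ha]
      norm_num
    have h2a : (2 : ℤ) ∣ a := by
      have hy0 : (χ : E → ℂ) y = 0 := vanish (φ := φ) hπ hc hq hl
        (by rw [hy]; exact fused_fam _ (by rw [f15]; exact b15)) hχ
      have f8 : fam (π (y ^ 2)) = 8 := by rw [map_pow, fam_pow2, hy, f15, p2]
      have h10 : (y ^ 2) ^ 5 ∈ π.ker := by
        rw [MonoidHom.mem_ker, ← pow_mul, map_pow, hy]
        have : (2 * 5 : ℕ) = orderOf (Ru.R 15) := by rw [o10]
        rw [this]
        exact pow_orderOf_eq_one _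
      set n : π.ker := ⟨(y ^ 2) ^ 5, h10⟩ with hn
      have hn2 : n ^ 2 = 1 := by rw [← h2]; exact pow_card_eq_one'
      have hn2' : ((y ^ 2) ^ 5) ^ 2 = 1 := congrArg Subtype.val hn2
      have hu : ((y ^ 2) ^ 6) ^ 5 = 1 := by
        rw [← pow_mul, show 6 * 5 = 5 * 2 * 3 from rfl, pow_mul, pow_mul _ 5 2, hn2', one_pow]
      have hcj : IsConj ((y ^ 2) ^ 6) (g ^ 3) := by
        refine conj_of_conj hπ hc h2 (n := 5) (by norm_num) hu hx5 (conj8 ?_ fx5)
        have e : π ((y ^ 2) ^ 6) = π (y ^ 2) := by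
          rw [pow_succ, map_mul, show π ((y ^ 2) ^ 5) = 1 from h10, one_mul]
        rw [e, f8]
      have e1 : (y ^ 2) ^ 6 = y ^ 2 * (n : E) := by
        rw [hn]
        change (y ^ 2) ^ 6 = y ^ 2 * (y ^ 2) ^ 5
        rw [← pow_succ']
      have e2 : (χ : E → ℂ) ((y ^ 2) ^ 6) = a := by
        rw [← ha]
        obtain ⟨c, hcc⟩ := isConj_iff.1 hcj
        rw [← hcc]
        exact (isIrr_isClassFunction χ.2 _ _).symm
      rw [e1, hχ (y ^ 2) n] at e2
      have e3 : (l n : ℂ) = 1 ∨ (l n : ℂ) = -1 := by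
        have e4 : l n ^ 2 = 1 := by rw [← map_pow, hn2, map_one]
        have e5 : ((l n : ℂˣ) : ℂ) ^ 2 = 1 := by
          rw [← Units.val_pow_eq_pow_val, e4, Units.val_one]
        have e6 : (((l n : ℂˣ) : ℂ) - 1) * (((l n : ℂˣ) : ℂ) + 1) = 0 := by linear_combination e5
        rcases mul_eq_zero.1 e6 with e7 | e7
        · exact Or.inl (sub_eq_zero.1 e7)
        · exact Or.inr (eq_neg_of_add_eq_zero_left e7)
      obtain ⟨c, hc1, hc2⟩ : ∃ c : ℤ, (χ : E → ℂ) (y ^ 2) = c ∧ (c = a ∨ c = -a) := by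
        rcases e3 with e3 | e3
        · rw [e3, mul_one] at e2
          exact ⟨a, e2, Or.inl rfl⟩
        · rw [e3, mul_neg, mul_one] at e2
          refine ⟨-a, ?_, Or.inr rfl⟩
          push_cast
          rw [← e2, neg_neg]
      have h4 : (2 : ℤ) ∣ 0 - c := J3Type.CharTools.int_congr hch y Nat.prime_two (by rw [hy0]; norm_num) hc1
      rcases hc2 with rfl | rfl <;> omega
    exact ⟨a, b, ha, hb, quad h2a h3 ha0⟩
  choose! a b ha hb hab using hval
  -- the sums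
  have hcard : (ov π.ker l).card = 25 := by
    rw [← card_ov]
    exact card_irr (φ := φ) hπ hc h2 hφ hq hl
  have hmem : ∀ χ ∈ ov π.ker l, Lies π.ker l (χ : E → ℂ) := fun χ hχ => mem_ov.1 hχ
  have bound : ∀ (u : E) (k : ℕ) (v : IrrCharacter E → ℤ) (c : ℕ), u ^ k = 1 → k.Coprime 2 →
      (∀ χ : IrrCharacter E, Lies π.ker l (χ : E → ℂ) → (χ : E → ℂ) u = v χ) →
      Nat.card (Subgroup.centralizer ({π u} : Set H)) = c → ∑ χ ∈ ov π.ker l, v χ ^ 2 ≤ (c : ℤ) := by
    intro u k v c hu hk hv hcent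
    have h3 := sum_normSq_over hc l u (fun n hn => eq_one_of_isConj hc hu (by rwa [h2]) hn)
    have h4 := card_cent_le hc u
    rw [h2, hcent] at h4
    have h5 : ∑ χ ∈ ov π.ker l, ‖(χ : E → ℂ) u‖ ^ 2 = ((∑ χ ∈ ov π.ker l, v χ ^ 2 : ℤ) : ℝ) := by
      push_cast
      refine Finset.sum_congr rfl fun χ hχ => ?_
      rw [hv χ (hmem χ hχ), Complex.norm_intCast, sq_abs]
    rw [h5, h2] at h3
    have h6 : ((Nat.card (Subgroup.centralizer ({u} : Set E)) : ℕ) : ℝ) ≤ ((2 * c : ℕ) : ℝ) := by exact_mod_cast h4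
    rw [← h3] at h6
    push_cast at h6
    have h7 : ((∑ χ ∈ ov π.ker l, v χ ^ 2 : ℤ) : ℝ) ≤ ((c : ℤ) : ℝ) := by
      push_cast
      linarith
    exact_mod_cast h7
  have SA := bound (g ^ 3) 5 a 300 hx5 (by norm_num) ha (by
    obtain ⟨j, hj⟩ := cover (π (g ^ 3))
    have h3 := fx5
    rw [fam_eq hj] at h3
    rw [cent_fam hj, uniq8 j h3, c8])
  have SB := bound g 15 b 15 hg15 (by norm_num) hb (by
    rw [hg, cent_fam (IsConj.refl _), c23])
  have SAB : ∑ χ ∈ ov π.ker l, a χ * b χ = 0 := by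
    have h3 := sum_over hc l (g ^ 3) g
    have h4 : ∀ n : π.ker, ¬ IsConj (g ^ 3 * (n : E)) g := by
      intro n hn
      have h5 := π.map_isConj hn
      have h6 := order_conj h5
      rw [map_mul, show π (n : E) = 1 from n.2, mul_one, order_fam, fx5, n8, hg, o15] at h6
      norm_num at h6
    rw [Finset.sum_eq_zero (s := (Finset.univ : Finset π.ker)) (fun n _ => by rw [if_neg (h4 n), mul_zero]),
      mul_zero] at h3
    have h7 : ((∑ χ ∈ ov π.ker l, a χ * b χ : ℤ) : ℂ) = 0 := by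
      rw [← h3]
      push_cast
      refine Finset.sum_congr rfl fun χ hχ => ?_
      rw [ha χ (hmem χ hχ), hb χ (hmem χ hχ), map_intCast]
    exact_mod_cast h7
  have S1 : (25 : ℤ) * 36 ≤ ∑ χ ∈ ov π.ker l, (a χ ^ 2 - 2 * a χ * b χ + 28 * b χ ^ 2) := by
    have h3 := Finset.card_nsmul_le_sum (ov π.ker l) (fun χ => a χ ^ 2 - 2 * a χ * b χ + 28 * b χ ^ 2) 36
      (fun χ hχ => hab χ (hmem χ hχ))
    rw [hcard] at h3
    simpa using h3
  have S2 : ∑ χ ∈ ov π.ker l, (a χ ^ 2 - 2 * a χ * b χ + 28 * b χ ^ 2) =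
      ∑ χ ∈ ov π.ker l, a χ ^ 2 - 2 * ∑ χ ∈ ov π.ker l, a χ * b χ + 28 * ∑ χ ∈ ov π.ker l, b χ ^ 2 := by
    rw [Finset.mul_sum, Finset.mul_sum, ← Finset.sum_sub_distrib, ← Finset.sum_add_distrib]
    exact Finset.sum_congr rfl fun χ _ => by ring
  rw [S2, SAB] at S1
  push_cast at SA SB
  linarith

end main

/-! ### the rows -/

theorem nball_of (p : ℕ) (hp : p.Prime) (key : ∀ (E : Type) [Group E] [Finite E] (π : E →* H), Function.Surjective π →
    π.ker ≤ Subgroup.center E → Nat.card π.ker = 2 → ∀ φ : E →* fourRu, Function.Injective φ → (∀ x, q (φ x) = π x) →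
    ∀ l : π.ker →* ℂˣ, Function.Injective l →
    (∀ χ : IrrCharacter E, Lies π.ker l (χ : E → ℂ) → ¬ p ∣ charDegree (χ : E → ℂ)) → False) : NBall p H := by
  intro m hm hpm E _ _ π hπ hc hper hcard l hl
  have h3 := H95.StemCover.card_ker_dvd mult_H hper π hπ hc
  rw [hcard, Nat.card_congr (Multiplicative.toAdd (α := ZMod 2)), Nat.card_zmod] at h3
  have h2 : Nat.card π.ker = 2 := by
    rw [hcard]
    have := Nat.le_of_dvd (by norm_num) h3
    omega
  obtain ⟨φ, hφ, hq⟩ := exists_phi π hπ hc hper h2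
  by_contra hcon
  push Not at hcon
  refine key E π hπ hc h2 φ hφ hq l hl fun χ hχ => ?_
  exact hcon χ χ.2 (fun z => lies_one hχ z)

theorem nball_three_H : NBall 3 H := by
  refine nball_of 3 Nat.prime_three fun E _ _ π hπ hc h2 φ hφ hq l hl hbad => ?_
  have h3 := three_dvd_card_over hc l ?_ (by rw [h2]; norm_num) hbad
  · rw [card_irr (φ := φ) hπ hc h2 hφ hq hl] at h3
    norm_num at h3
  · refine dvd_trans ?_ (Subgroup.card_dvd_of_surjective π hπ)
    rw [card_H]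
    norm_num

theorem nball_five_H : NBall 5 H :=
  nball_of 5 Nat.prime_five fun E _ _ π hπ hc h2 φ hφ hq l hl hbad => five hπ hc h2 hφ hq hl hbad

universe u

/-- **(Ru, 3)** -/
theorem nball_three {S : Type u} [Group S] [Finite S] (h : Spor.IsoRu S) : NBall 3 S := by
  obtain ⟨e⟩ := h
  exact H325.RIM.NBall.congr (e.trans RuLat.Main.equiv) nball_three_H

/-- **(Ru, 5)** -/
theorem nball_five {S : Type u} [Group S] [Finite S] (h : Spor.IsoRu S) : NBall 5 S := by
  obtain ⟨e⟩ := h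
  exact H325.RIM.NBall.congr (e.trans RuLat.Main.equiv) nball_five_H

end Cfsg.Agent.H300.RIM
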