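import Cfsg.Agent.H300.RIM.Ru

/-!
# S4816, the rows (Ru, 7) and (Ru, 13) (helper300)

An element `x` of order `p` with `|C(x)| = 4 p` is the square of an element which is conjugate to its negative in the
double cover; so `χ(x)` is an even integer, and not zero if `p` does not divide `χ(1)`: there are at most `p` such
characters, but there are 25 faithful characters.
-/

set_option autoImplicit false
set_option maxRecDepth 100000
set_option exponentiation.threshold 5000

namespace Cfsg.Agent.H300.RIM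

open Cfsg Cfsg.Spor Cfsg.Agent.SporadicB Cfsg.Agent.SporadicB.RuOrder Cfsg.Agent.H300 Cfsg.Agent.H300.Ru
open Cfsg.Agent.H289.Eight.RuDeg
open Cfsg.Agent.H622.Over Cfsg.Agent.H382.RIM Cfsg.Agent.H665.RIM Cfsg.Agent.Characters.Core
open scoped ComplexConjugate

section main
variable {E : Type} [Group E] [Finite E] {π : E →* H} {φ : E →* fourRu} {l : π.ker →* ℂˣ}

theorem even_kill {p : ℕ} [Fact p.Prime] (hp2 : p % 2 = 1) {i0 : ℕ} {j0 y0 : Fin 36} {c : ℕ}
    (hi : ∀ j : Fin 36, (rp j).i = i0 → j = j0) (hj0 : (rp j0).i = i0) (hn : (fm i0).n = p) (hcc : (fm i0).c = c)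
    (hy2 : P2.getD (rp y0).i 0 = i0) (hyb : bad (rp y0).i = true) (hyn : (fm (rp y0).i).n = 2 * p) (hlt : c < 100)
    (hπ : Function.Surjective π) (hc : π.ker ≤ Subgroup.center E) (h2 : Nat.card π.ker = 2)
    (hφ : Function.Injective φ) (hq : ∀ x, q (φ x) = π x) (hl : Function.Injective l)
    (hbad : ∀ χ : IrrCharacter E, Lies π.ker l (χ : E → ℂ) → ¬ p ∣ charDegree (χ : E → ℂ)) : False := by
  classical
  have hpp : p.Prime := Fact.out
  have hfin := finite_irr (G := E)
  have := Fintype.ofFinite (IrrCharacter E)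
  have := Fintype.ofFinite π.ker
  have hcop2 : p.Coprime 2 := (Nat.coprime_primes hpp Nat.prime_two).2 (by rintro rfl; norm_num at hp2)
  have uq : ∀ {h h' : H}, fam h = i0 → fam h' = i0 → IsConj h h' := by
    intro h h' h1 h3
    obtain ⟨j, hj⟩ := cover h
    obtain ⟨j', hj'⟩ := cover h'
    rw [fam_eq hj] at h1
    rw [fam_eq hj'] at h3
    rw [hi j h1] at hj
    rw [hi j' h3] at hj'
    exact hj.symm.trans hj'
  have fR : fam (Ru.R j0) = i0 := by rw [fam_R, hj0]
  have oR : orderOf (Ru.R j0) = p := by rw [order_fam, fR, hn]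
  -- the elements
  obtain ⟨x, hx, hxp⟩ := exists_odd_lift hπ hc h2 (h := Ru.R j0) (n := p) hp2
    (by rw [← oR]; exact pow_orderOf_eq_one _)
  obtain ⟨y, hy⟩ := hπ (Ru.R y0)
  have oy : orderOf (Ru.R y0) = 2 * p := by rw [order_R, hyn]
  have ox : orderOf x = p := by
    apply Nat.dvd_antisymm (orderOf_dvd_of_pow_eq_one hxp)
    rw [← oR, ← hx]
    exact orderOf_map_dvd π x
  -- the values
  have hval : ∀ χ : IrrCharacter E, Lies π.ker l (χ : E → ℂ) → ∃ a : ℤ, (χ : E → ℂ) x = a ∧ 4 ≤ a ^ 2 := by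
    intro χ hχ
    have hch := isIrr_isCharacter χ.2
    obtain ⟨a, ha⟩ := J3Type.CharTools.int_of_conj hch x (by
      intro m hm
      refine conj_of_conj hπ hc h2 (n := p) hp2 hxp (by rw [← pow_mul, mul_comm, pow_mul, hxp, one_pow]) ?_
      rw [map_pow, hx]
      refine uq fR ?_
      rw [fam_pow_coprime (by rw [oR]; rwa [ox] at hm), fR])
    have ha0 : a ≠ 0 := by
      rintro rfl
      refine H424.CentBound.apply_ne_zero (p := p) hch (Blocks.Basic.irr_one_eq_charDegree χ.2) (hbad χ hχ)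
        (g := x) (m := 1) (by rw [pow_one]; exact hxp) ?_
      rw [ha]
      norm_num
    have h2a : (2 : ℤ) ∣ a := by
      have hy0 : (χ : E → ℂ) y = 0 := vanish (φ := φ) hπ hc hq hl
        (by rw [hy]; exact fused_R y0 hyb) hχ
      have f8 : fam (π (y ^ 2)) = i0 := by rw [map_pow, fam_pow2, hy, fam_R, hy2]
      have h10 : (y ^ 2) ^ p ∈ π.ker := by
        rw [MonoidHom.mem_ker, ← pow_mul, map_pow, hy, ← oy]
        exact pow_orderOf_eq_one _
      set n : π.ker := ⟨(y ^ 2) ^ p, h10⟩ with hn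
      have hn2 : n ^ 2 = 1 := by rw [← h2]; exact pow_card_eq_one'
      have hn2' : ((y ^ 2) ^ p) ^ 2 = 1 := congrArg Subtype.val hn2
      have hu : ((y ^ 2) ^ (p + 1)) ^ p = 1 := by
        obtain ⟨m, hm⟩ : ∃ m, p + 1 = 2 * m := ⟨(p + 1) / 2, by omega⟩
        rw [← pow_mul, hm, mul_comm, ← mul_assoc, pow_mul, pow_mul, hn2', one_pow]
      have hcj : IsConj ((y ^ 2) ^ (p + 1)) x := by
        refine conj_of_conj hπ hc h2 (n := p) hp2 hu hxp ?_
        rw [hx]
        refine uq ?_ fR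
        have e : π ((y ^ 2) ^ (p + 1)) = π (y ^ 2) := by
          rw [pow_succ, map_mul, show π ((y ^ 2) ^ p) = 1 from h10, one_mul]
        rw [e, f8]
      have e1 : (y ^ 2) ^ (p + 1) = y ^ 2 * (n : E) := by
        rw [hn]
        change (y ^ 2) ^ (p + 1) = y ^ 2 * (y ^ 2) ^ p
        rw [← pow_succ']
      have e2 : (χ : E → ℂ) ((y ^ 2) ^ (p + 1)) = a := by
        rw [← ha]
        obtain ⟨c, hcc⟩ := isConj_iff.1 hcj
        rw [← hcc]
        exact (isIrr_isClassFunction χ.2 _ _).symm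
      rw [e1, hχ (y ^ 2) n] at e2
      have e3 : (l n : ℂ) = 1 ∨ (l n : ℂ) = -1 := by
        have e4 : l n ^ 2 = 1 := by rw [← map_pow, hn2, map_one]
        have e5 : ((l n : ℂˣ) : ℂ) ^ 2 = 1 := by
          rw [← Units.val_pow_eq_pow_val, e4, Units.val_one]
        have e6 : (((l n : ℂˣ) : ℂ) - 1) * (((l n : ℂˣ) : ℂ) + 1) = 0 := by linear_combination e5
        rcases mul_eq_zero.1 e6 with e7 | e7
        · exact Or.inl (sub_eq_zero.1 e7)
        · exact Or.inr (eq_neg_of_add_eq_zero_left e7)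
      obtain ⟨c, hc1, hc2⟩ : ∃ c : ℤ, (χ : E → ℂ) (y ^ 2) = c ∧ (c = a ∨ c = -a) := by
        rcases e3 with e3 | e3
        · rw [e3, mul_one] at e2
          exact ⟨a, e2, Or.inl rfl⟩
        · rw [e3, mul_neg, mul_one] at e2
          refine ⟨-a, ?_, Or.inr rfl⟩
          push_cast
          rw [← e2, neg_neg]
      have h4 : (2 : ℤ) ∣ 0 - c := J3Type.CharTools.int_congr hch y Nat.prime_two (by rw [hy0]; norm_num) hc1
      rcases hc2 with rfl | rfl <;> omega
    refine ⟨a, ha, ?_⟩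
    obtain ⟨b, rfl⟩ := h2a
    have hb : b ≠ 0 := by rintro rfl; exact ha0 rfl
    have h5 : 0 < b ^ 2 := by positivity
    nlinarith
  choose! a ha hab using hval
  have hcard : (ov π.ker l).card = 25 := by
    rw [← card_ov]
    exact card_irr (φ := φ) hπ hc h2 hφ hq hl
  have hmem : ∀ χ ∈ ov π.ker l, Lies π.ker l (χ : E → ℂ) := fun χ hχ => mem_ov.1 hχ
  have h3 := sum_normSq_over hc l x (fun n hn => eq_one_of_isConj hc hxp (by rwa [h2]) hn)
  have h4 := card_cent_le hc x
  rw [h2, hx, cent_fam (IsConj.refl _), hj0, hcc] at h4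
  have h5 : ∑ χ ∈ ov π.ker l, ‖(χ : E → ℂ) x‖ ^ 2 = ((∑ χ ∈ ov π.ker l, a χ ^ 2 : ℤ) : ℝ) := by
    push_cast
    refine Finset.sum_congr rfl fun χ hχ => ?_
    rw [ha χ (hmem χ hχ), Complex.norm_intCast, sq_abs]
  rw [h5, h2] at h3
  have h6 : ((Nat.card (Subgroup.centralizer ({x} : Set E)) : ℕ) : ℝ) ≤ ((2 * c : ℕ) : ℝ) := by exact_mod_cast h4
  rw [← h3] at h6
  push_cast at h6
  have h7 : ((∑ χ ∈ ov π.ker l, a χ ^ 2 : ℤ) : ℝ) ≤ ((c : ℤ) : ℝ) := by
    push_cast
    linarith
  have h8 : ∑ χ ∈ ov π.ker l, a χ ^ 2 ≤ (c : ℤ) := by exact_mod_cast h7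
  have h9 := Finset.card_nsmul_le_sum (ov π.ker l) (fun χ => a χ ^ 2) 4 (fun χ hχ => hab χ (hmem χ hχ))
  rw [hcard] at h9
  have h10 : (25 : ℤ) * 4 ≤ ∑ χ ∈ ov π.ker l, a χ ^ 2 := by simpa using h9
  have h11 : (c : ℤ) < 100 := by exact_mod_cast hlt
  linarith

end main

theorem nball_seven_H : NBall 7 H := by
  have : Fact (Nat.Prime 7) := ⟨by norm_num⟩
  exact nball_of 7 (by norm_num) fun E _ _ π hπ hc h2 φ hφ hq l hl hbad =>
    even_kill (i0 := 11) (j0 := 11) (y0 := 20) (c := 28) (by norm_num) (by decide +kernel) (by decide +kernel)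
      (by decide +kernel) (by decide +kernel) (by decide +kernel) (by decide +kernel) (by decide +kernel) (by norm_num)
      hπ hc h2 hφ hq hl hbad

theorem nball_thirteen_H : NBall 13 H := by
  have : Fact (Nat.Prime 13) := ⟨by norm_num⟩
  exact nball_of 13 (by norm_num) fun E _ _ π hπ hc h2 φ hφ hq l hl hbad =>
    even_kill (i0 := 19) (j0 := 19) (y0 := 31) (c := 52) (by norm_num) (by decide +kernel) (by decide +kernel)
      (by decide +kernel) (by decide +kernel) (by decide +kernel) (by decide +kernel) (by decide +kernel) (by norm_num)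
      hπ hc h2 hφ hq hl hbad

universe u

/-- **(Ru, 7)** -/
theorem nball_seven {S : Type u} [Group S] [Finite S] (h : Spor.IsoRu S) : NBall 7 S := by
  obtain ⟨e⟩ := h
  exact H325.RIM.NBall.congr (e.trans RuLat.Main.equiv) nball_seven_H

/-- **(Ru, 13)** -/
theorem nball_thirteen {S : Type u} [Group S] [Finite S] (h : Spor.IsoRu S) : NBall 13 S := by
  obtain ⟨e⟩ := h
  exact H325.RIM.NBall.congr (e.trans RuLat.Main.equiv) nball_thirteen_H

end Cfsg.Agent.H300.RIM
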