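import Cfsg.Agent.H300.RIM.Ru
import Cfsg.Agent.H620.RIM.Nb
import Cfsg.Agent.SmallSimple.PrimeOrderData

/-!
# S4816, the row (Ru, 29) (helper300)

`|C(x)| = 29`, `|N(⟨x⟩)| = 14 * 29`, and there are 17 classes of elements `g` of odd order or with `|C(g) : ⟨g⟩|` odd;
`14 ^ 2 + 28 < 14 * 17` (helper620's form of helper849's count).
-/

set_option autoImplicit false
set_option maxRecDepth 100000
set_option exponentiation.threshold 5000

namespace Cfsg.Agent.H300.RIM

open Cfsg Cfsg.Spor Cfsg.Agent.SporadicB Cfsg.Agent.SporadicB.RuOrder Cfsg.Agent.H300 Cfsg.Agent.H300.Ru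
open Cfsg.Agent.H665.RIM Cfsg.Agent.H620.RIM

theorem norm29 : Nat.card (Subgroup.normalizer ((Subgroup.zpowers (Ru.R 34) : Subgroup H) : Set H)) = 14 * 29 := by
  have := RuSimple.isSimpleGroup_H
  have : Fact (Nat.Prime 29) := ⟨by norm_num⟩
  have hfin := finite_H
  have ho : orderOf (Ru.R 34) = 29 := by
    rw [order_R]
    decide +kernel
  obtain ⟨e, c, he, he1, hC, hN, hS⟩ := SmallSimple.PrimeOrderData.exists_data (G := H) (p := 29) (m := 5031936000)
    (by rw [card_H]) (by norm_num) (by norm_num) (Ru.R 34) ho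
  have hc1 : c = 1 := by
    rw [card_centralizer] at hC
    have h2 : (fm (rp 34).i).c = 29 := by decide +kernel
    rw [h2] at hC
    omega
  subst hc1
  rw [hN]
  have hmod := card_sylow_modEq_one 29 H
  rw [one_mul] at hS
  have h3 : e ≤ 28 := Nat.le_of_dvd (by norm_num) he
  have h4 : (Nat.card (Sylow 29 H) * e) % 29 = e % 29 := by
    rw [Nat.mul_mod, hmod, ← Nat.mul_mod, one_mul]
  rw [hS] at h4
  have h5 : e = 14 := by
    have h6 : (5031936000 : ℕ) % 29 = 14 := by norm_num
    rw [h6, Nat.mod_eq_of_lt (by omega)] at h4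
    exact h4.symm
  rw [h5]

def L17 : List (Fin 36) := [0, 3, 8, 9, 11, 19, 23, 34, 35, 17, 24, 25, 26, 27, 28, 29, 30]

theorem okL17 : ∀ j ∈ L17, (fm (rp j).i).n % 2 = 1 ∨ ((fm (rp j).i).c / (fm (rp j).i).n) % 2 = 1 := by decide +kernel

theorem nodupL17 : L17.Nodup := by decide

theorem nb29 : NB 29 2 H := by
  have hfin := finite_H
  obtain ⟨F, hF, hF'⟩ := exists_finset (MGood 2 : H → Prop) (L17.map Ru.R) (by
    rw [List.pairwise_map]
    exact nodupL17.imp fun h h1 => h (nonconj _ _ h1)) (by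
    intro g hg
    obtain ⟨j, hj, rfl⟩ := List.mem_map.1 hg
    intro r hr h2
    have hr2 : r = 2 := (Nat.prime_dvd_prime_iff_eq hr Nat.prime_two).1 h2
    subst hr2
    rw [order_R, card_centralizer]
    rcases okL17 j hj with h | h
    · left
      omega
    · right
      omega)
  refine nb_of_dz_self (p := 29) (m := 2) (by norm_num) (by norm_num) ?_ (y := Ru.R 34) ?_ (w := 14) ?_ norm29 F hF' ?_
  · rw [card_H]
    norm_num
  · rw [order_R]
    decide +kernel
  · rw [card_centralizer]
    decide +kernel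
  · rw [hF, List.length_map]
    decide

theorem nball_29_H : NBall 29 H := by
  intro m hm hpm
  by_cases h2 : m = 2
  · subst h2
    exact nb29
  · intro E _ _ π hπ hc hper hcard l hl
    have h3 := H95.StemCover.card_ker_dvd mult_H hper π hπ hc
    rw [hcard, Nat.card_congr (Multiplicative.toAdd (α := ZMod 2)), Nat.card_zmod] at h3
    have := Nat.le_of_dvd (by norm_num) h3
    omega

universe u

/-- **(Ru, 29)** -/
theorem nball_29 {S : Type u} [Group S] [Finite S] (h : Spor.IsoRu S) : NBall 29 S := by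
  obtain ⟨e⟩ := h
  exact H325.RIM.NBall.congr (e.trans RuLat.Main.equiv) nball_29_H

end Cfsg.Agent.H300.RIM
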