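import Cfsg.Agent.H300.Ru.Base
import Cfsg.Agent.H289.Eight.RuDeg

/-!
# The values of `|χ28|²` on the fourfold cover of the Rudvalis group (helper300, S4816)

`chi_sq` : `χ28 g * conj (χ28 g) = 1 + χ783 (q g)`.
-/

set_option autoImplicit false
set_option maxRecDepth 100000
set_option exponentiation.threshold 5000

namespace Cfsg.Agent.H300.RIM

open Cfsg Cfsg.Spor Cfsg.Agent.SporadicB Cfsg.Agent.SporadicB.RuOrder Cfsg.Agent.H300 Cfsg.Agent.H300.Ru
open Cfsg.Agent.H289.Eight.RuRep Cfsg.Agent.H289.Eight.RuDeg Cfsg.Agent.H289.Eight.SqIrr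
open Cfsg.Agent.Characters.Core
open scoped ComplexConjugate

theorem valOk : ∀ i : Fin 28, (fx i 1 : ℤ) = 1 + va.getD i 0 + vb.getD i 0 := by decide +kernel

theorem fix_sum (g : H) : (Nat.card (MulAction.fixedBy (Fin 4060) g) : ℂ) =
    1 + Cls.tv fam va g + Cls.tv fam vb g := by
  have h1 : Nat.card (MulAction.fixedBy (Fin 4060) g) = fixC g := by
    rw [fixC, Nat.card_eq_fintype_card, Fintype.card_subtype]
    rfl
  rw [h1, fixC_fam]
  have h2 := valOk ⟨fam g, fam_lt g⟩
  simp only [Cls.tv]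
  have h3 : ((fx (fam g) 1 : ℕ) : ℂ) = (((fx (fam g) 1 : ℕ) : ℤ) : ℂ) := by push_cast; rfl
  rw [h3]
  change (((fx (fam g) 1 : ℕ) : ℤ) : ℂ) = _
  have h4 : ((fx (fam g) 1 : ℕ) : ℤ) = 1 + va.getD (fam g) 0 + vb.getD (fam g) 0 := h2
  rw [h4]
  push_cast
  rfl

theorem va_zero : va.getD (fam (1 : H)) 0 = 783 ∧ vb.getD (fam (1 : H)) 0 = 3276 := by
  have h : IsConj (R 0) 1 := by
    have h1 : R 0 = 1 := by
      rw [R]
      exact one_pow _
    rw [h1]
  rw [fam_eq h]
  decide +kernel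

/-- **the character of `End V`** -/
theorem end_val : (Representation.linHom rho rho).character = 1 + (Cls.tv fam va) ∘ q := by
  classical
  have := Fintype.ofFinite fourRu
  refine eq_add (P := Fin 4060) _ T (w := P0) (x := 0) (y := Cfsg.Agent.H690.Spor.Ru.c3) ?_ tr tr_ne
    (isIrr_comp q q_surj irr_a) (isIrr_comp q q_surj irr_b) (n := 783) (b := 3276) ?_ (by norm_num) ?_ ?_
    (by norm_num) ?_
  · rw [T_P0_three]
    exact T_P0_zero
  · rw [Module.finrank_linearMap, finrank_V]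
  · change Cls.tv fam va (q 1) = _
    rw [map_one, Cls.tv, va_zero.1]
    norm_num
  · change Cls.tv fam vb (q 1) = _
    rw [map_one, Cls.tv, va_zero.2]
    norm_num
  · intro g
    rw [fixed_eq]
    exact fix_sum (q g)

theorem chi_sq (g : fourRu) : chi g * conj (chi g) = ((1 + va.getD (fam (q g)) 0 : ℤ) : ℂ) := by
  have h := congrFun end_val g
  rw [Representation.char_linHom, Cfsg.Agent.PermutationGroups.PermChar.char_inv_eq_conj, mul_comm] at h
  rw [chi, h]
  change 1 + Cls.tv fam va (q g) = _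
  rw [Cls.tv]
  push_cast
  rfl

theorem chi_ne {g : fourRu} (h : 1 + va.getD (fam (q g)) 0 ≠ 0) : chi g ≠ 0 := by
  intro h0
  have h1 := chi_sq g
  rw [h0, zero_mul] at h1
  exact h (by exact_mod_cast h1.symm)

end Cfsg.Agent.H300.RIM
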