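import Cfsg.Agent.H300.RIM.RuFuse
import Cfsg.Agent.H382.RIM.Tool
import Cfsg.Agent.H95.StemCover

/-!
# The double cover of the Rudvalis group: the number of faithful characters is 25 (helper300, S4816)
-/

set_option autoImplicit false
set_option maxRecDepth 100000
set_option exponentiation.threshold 5000

namespace Cfsg.Agent.H300.RIM

open Cfsg Cfsg.Spor Cfsg.Agent.SporadicB Cfsg.Agent.SporadicB.RuOrder Cfsg.Agent.H300 Cfsg.Agent.H300.Ru
open Cfsg.Agent.H289.Eight.RuRep Cfsg.Agent.H289.Eight.RuDeg Cfsg.Agent.RuLat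
open Cfsg.Agent.H622.Over Cfsg.Agent.H382.RIM
open scoped ComplexConjugate commutatorElement

theorem ker_q : q.ker = Subgroup.center fourRu := by
  rw [RuLat.Main.hyp.ker_eq Prep.span_bl (onto RuLat.Main.hyp Prep.span_bl)]
  ext f
  rw [MonoidHom.mem_ker, MonoidHom.mem_ker, Subtype.ext_iff]
  rfl

theorem mult_H : HasSchurMultiplier H (Multiplicative (ZMod 2)) :=
  H487.HasSchurMultiplier.congr_left S2051.result RuLat.Main.equiv

instance finite_H : Finite H := Nat.finite_of_card_ne_zero (by rw [card_H]; norm_num)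

theorem perfect_H : commutator H = ⊤ := by
  have h := RuSimple.isSimpleGroup_H
  exact H51.Tools.perfect_of_simple h (by rw [card_H]; norm_num)

theorem q_jk : q ⁅H51.RuCover.j, H51.RuCover.k⁆ = 1 := by
  rw [← MonoidHom.mem_ker, ker_q]
  exact H51.RuCover.mem_center_of H51.RuCover.comm_apply

/-- **embedding of the double covers in `fourRu`** -/
theorem exists_phi {E : Type} [Group E] [Finite E] (π : E →* H) (hπ : Function.Surjective π)
    (hc : π.ker ≤ Subgroup.center E) (hp : commutator E = ⊤) (h2 : Nat.card π.ker = 2) :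
    ∃ φ : E →* fourRu, Function.Injective φ ∧ ∀ x, q (φ x) = π x := by
  have hpce := H51.Tools.pce_of_central q_surj (by rw [ker_q]) perfect_H
  obtain ⟨φ, hφ, hφ2⟩ := H95.StemCover.exists_cover perfect_H mult_H π (H95.StemCover.isStem hp hπ hc)
    (by rw [h2, Nat.card_congr (Multiplicative.toAdd (α := ZMod 2)), Nat.card_zmod])
    (q.comp (commutator fourRu).subtype) (H95.StemCover.isStem hpce.perf hpce.surj hpce.cen)
  refine ⟨(commutator fourRu).subtype.comp φ, ?_, hφ2⟩
  have hinj : Function.Injective φ := by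
    rw [injective_iff_map_eq_one]
    intro x hx
    have hx1 : π x = 1 := by rw [← hφ2, hx, map_one]
    obtain ⟨e, he⟩ := hφ ⟨⁅H51.RuCover.j, H51.RuCover.k⁆,
      Subgroup.commutator_mem_commutator (Subgroup.mem_top _) (Subgroup.mem_top _)⟩
    have he1 : π e = 1 := by
      rw [← hφ2, he]
      exact q_jk
    have hne : e ≠ 1 := by
      rintro rfl
      rw [map_one] at he
      have h3 : (1 : fourRu) = ⁅H51.RuCover.j, H51.RuCover.k⁆ := congrArg (Subtype.val) he
      have h4 := H51.RuCover.orderOf_comm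
      rw [← h3, orderOf_one] at h4
      exact absurd h4 (by norm_num)
    by_contra hx2
    have h5 : Nat.card π.ker = 2 := h2
    have h6 : (⟨x, hx1⟩ : π.ker) ≠ 1 := fun h => hx2 (congrArg Subtype.val h)
    have h7 : (⟨e, he1⟩ : π.ker) ≠ 1 := fun h => hne (congrArg Subtype.val h)
    have h8 : (⟨x, hx1⟩ : π.ker) = ⟨e, he1⟩ := by
      rw [Nat.card_eq_two_iff' (1 : π.ker)] at h5
      obtain ⟨y, -, hy⟩ := h5
      rw [hy _ h6, hy _ h7]
    have h9 : x = e := congrArg Subtype.val h8
    rw [← h9, hx] at he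
    have h3 : (1 : fourRu) = ⁅H51.RuCover.j, H51.RuCover.k⁆ := congrArg (Subtype.val) he
    have h4 := H51.RuCover.orderOf_comm
    rw [← h3, orderOf_one] at h4
    exact absurd h4 (by norm_num)
  exact (Subtype.val_injective).comp hinj

/-! ### good and bad classes -/

section
variable {E : Type} [Group E] [Finite E] {π : E →* H} {φ : E →* fourRu} {l : π.ker →* ℂˣ}

theorem chi_scalar (e : ℕ) (g : fourRu) : chi (iz ^ e * g) = Complex.I ^ e * chi g := by
  induction e with
  | zero => rw [pow_zero, pow_zero, one_mul, one_mul]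
  | succ e ih => rw [pow_succ', mul_assoc, chi_iz, ih, pow_succ']; ring

theorem chi_conj (f g : fourRu) : chi (f * g * f⁻¹) = chi g := Representation.char_conj rho g f

theorem iz_pow_four : iz ^ 4 = 1 := Subtype.ext iPerm_pow_four

/-- elements at which `χ28` does not vanish are good -/
theorem good_of_ne (hφ : Function.Injective φ) (hq : ∀ x, q (φ x) = π x) {g : E} (hg : chi (φ g) ≠ 0) :
    Good π.ker l g := by
  intro x hx
  suffices h : x⁻¹ * g⁻¹ * x * g = 1 by
    have : (⟨x⁻¹ * g⁻¹ * x * g, hx⟩ : π.ker) = 1 := Subtype.ext h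
    rw [this, map_one]
  set n := x⁻¹ * g⁻¹ * x * g with hn
  -- `x⁻¹ g⁻¹ x = n g⁻¹`
  have h1 : π n = 1 := hx
  have h2 : φ n ∈ Subgroup.center fourRu := by
    rw [← ker_q, MonoidHom.mem_ker, hq, h1]
  obtain ⟨e, he⟩ := center_eq h2
  have h3 : x⁻¹ * g * x = g * n⁻¹ := by rw [hn]; group
  have hcn : φ g * φ n = φ n * φ g := Subgroup.mem_center_iff.1 h2 (φ g)
  have h5 : (φ x)⁻¹ * φ g * φ x = φ g * (φ n)⁻¹ := by
    rw [← map_inv, ← map_mul, ← map_mul, h3, map_mul, map_inv]
  have h4 : φ g = iz ^ e * ((φ x)⁻¹ * φ g * φ x) := by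
    rw [← he, h5, ← mul_assoc, ← hcn, mul_inv_cancel_right]
  have h6 : chi (φ g) = Complex.I ^ e * chi (φ g) := by
    conv_lhs => rw [h4]
    rw [chi_scalar]
    congr 1
    have := chi_conj (φ x)⁻¹ (φ g)
    rwa [inv_inv] at this
  have h7 : Complex.I ^ e = 1 := by
    have : (Complex.I ^ e - 1) * chi (φ g) = 0 := by rw [sub_mul, ← h6, one_mul, sub_self]
    rcases mul_eq_zero.1 this with h8 | h8
    · exact sub_eq_zero.1 h8
    · exact absurd h8 hg
  have h8 : 4 ∣ e := by
    rw [Nat.dvd_iff_mod_eq_zero]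
    rw [Complex.I_pow_eq_pow_mod] at h7
    have h9 : e % 4 < 4 := Nat.mod_lt _ (by norm_num)
    generalize e % 4 = r at h7 h9
    interval_cases r
    · rfl
    · exfalso
      rw [pow_one] at h7
      have := congrArg Complex.re h7
      simp at this
    · exfalso
      rw [Complex.I_sq] at h7
      norm_num at h7
    · exfalso
      rw [pow_succ, Complex.I_sq] at h7
      have := congrArg Complex.re h7
      simp at this
  apply hφ
  obtain ⟨m, rfl⟩ := h8
  rw [he, pow_mul, iz_pow_four, one_pow, map_one]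

/-- elements of odd order are good -/
theorem good_of_odd (hc : π.ker ≤ Subgroup.center E) (h2 : Nat.card π.ker = 2) {g : E} {k : ℕ} (hg : g ^ k = 1)
    (hk : k.Coprime 2) : Good π.ker l g := by
  intro x hx
  have h3 : IsConj (g * (⟨x⁻¹ * g⁻¹ * x * g, hx⟩ : π.ker)⁻¹) g := by
    rw [isConj_iff]
    refine ⟨x, ?_⟩
    rw [InvMemClass.coe_inv]
    group
  have h4 := eq_one_of_isConj hc hg (by rwa [h2]) h3
  rw [inv_eq_one] at h4
  rw [h4, map_one]

/-- fused elements are not good -/
theorem not_good (hπ : Function.Surjective π) (hq : ∀ x, q (φ x) = π x) (hl : Function.Injective l) {g : E}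
    (hg : Fused (π g)) : ¬ Good π.ker l g := by
  intro h
  obtain ⟨t, ht, hn⟩ := hg
  obtain ⟨x, rfl⟩ := hπ t
  have hx : x⁻¹ * g⁻¹ * x * g ∈ π.ker := by
    rw [MonoidHom.mem_ker, map_mul, map_mul, map_mul, map_inv, map_inv]
    calc (π x)⁻¹ * (π g)⁻¹ * π x * π g = (π x)⁻¹ * (π g)⁻¹ * (π x * π g) := by group
      _ = (π x)⁻¹ * (π g)⁻¹ * (π g * π x) := by rw [ht]
      _ = 1 := by group
  have h1 := h x hx
  have h2 : (⟨x⁻¹ * g⁻¹ * x * g, hx⟩ : π.ker) = 1 := hl (by rw [h1, map_one])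
  have h3 : x⁻¹ * g⁻¹ * x * g = 1 := congrArg Subtype.val h2
  apply hn (φ g) (φ x) (hq g) (hq x)
  rw [← map_mul, ← map_mul]
  congr 1
  have h4 : g * x = g * x * (x⁻¹ * g⁻¹ * x * g) := by rw [h3, mul_one]
  rw [h4]
  group

theorem good_congr (hc : π.ker ≤ Subgroup.center E) {g g' : E} (h : π g = π g') (hg : Good π.ker l g) :
    Good π.ker l g' := by
  refine good_conj hc ?_ hg
  congr 1
  rw [QuotientGroup.eq, MonoidHom.mem_ker, map_mul, map_inv, h, inv_mul_cancel]

theorem goodFam : ∀ i : Fin 28, bad i = false → 1 + va.getD i 0 ≠ 0 ∨ (i : ℕ) = 11 := by decide +kernel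

theorem eleven_pow {h : H} (hf : fam h = 11) : h ^ 7 = 1 := by
  have h1 : orderOf h = (fm (fam h)).n := by
    obtain ⟨j, hj⟩ := cover h
    rw [← order_conj hj, order_R, fam_eq hj]
  rw [hf] at h1
  have h2 : (fm 11).n = 7 := by decide +kernel
  rw [← h2, ← h1]
  exact pow_orderOf_eq_one h

theorem good_of_fam (hc : π.ker ≤ Subgroup.center E) (h2 : Nat.card π.ker = 2) (hφ : Function.Injective φ)
    (hq : ∀ x, q (φ x) = π x) {g : E} (hb : bad (fam (π g)) = false) : Good π.ker l g := by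
  rcases goodFam ⟨fam (π g), fam_lt _⟩ hb with h | h
  · refine good_of_ne hφ hq (chi_ne ?_)
    rw [hq]
    exact h
  · have h7 := eleven_pow h
    have h14 : g ^ 14 = 1 := by
      have h3 : g ^ 7 ∈ π.ker := by rw [MonoidHom.mem_ker, map_pow, h7]
      have h4 : (⟨g ^ 7, h3⟩ : π.ker) ^ 2 = 1 := by
        rw [← h2]
        exact pow_card_eq_one'
      have h5 := congrArg Subtype.val h4
      have h6 : (g ^ 7) ^ 2 = 1 := h5
      rwa [← pow_mul] at h6
    refine good_congr hc (g := g ^ 8) ?_ (good_of_odd hc h2 (k := 7) ?_ (by norm_num))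
    · rw [map_pow, show 8 = 7 + 1 from rfl, pow_succ, h7, one_mul]
    · rw [← pow_mul, show 8 * 7 = 14 * 4 from rfl, pow_mul, h14, one_pow]

theorem cardS : Fintype.card {j : Fin 36 // bad (rp j).i = false} = 25 := by decide +kernel

/-- **25 faithful characters** -/
theorem card_irr (hπ : Function.Surjective π) (hc : π.ker ≤ Subgroup.center E) (h2 : Nat.card π.ker = 2)
    (hφ : Function.Injective φ) (hq : ∀ x, q (φ x) = π x) (hl : Function.Injective l) :
    Nat.card {χ : IrrCharacter E // Lies π.ker l (χ : E → ℂ)} = 25 := by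
  classical
  rw [card_over hc, card_good hc, ← cardS, ← Nat.card_eq_fintype_card]
  symm
  let s : H → E := Function.surjInv hπ
  have hs : ∀ h, π (s h) = h := Function.surjInv_eq hπ
  have hlift : ∀ g : E, QuotientGroup.kerLift π (g : E ⧸ π.ker) = π g := fun g => rfl
  have hmk : ∀ g g' : E, π g = π g' → (g : E ⧸ π.ker) = (g' : E ⧸ π.ker) := by
    intro g g' h
    rw [QuotientGroup.eq, MonoidHom.mem_ker, map_mul, map_inv, h, inv_mul_cancel]
  refine Nat.card_eq_of_bijective (fun j : {j : Fin 36 // bad (rp j).i = false} =>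
    (⟨ConjClasses.mk (s (Ru.R j) : E ⧸ π.ker), s (Ru.R j), rfl,
      good_of_fam (l := l) hc h2 hφ hq (by rw [hs, fam_R]; exact j.2)⟩ :
      {C : ConjClasses (E ⧸ π.ker) // ∃ g : E, ConjClasses.mk (g : E ⧸ π.ker) = C ∧ Good π.ker l g})) ⟨?_, ?_⟩
  · intro i j hij
    have h1 : ConjClasses.mk (s (Ru.R i) : E ⧸ π.ker) = ConjClasses.mk (s (Ru.R j) : E ⧸ π.ker) :=
      congrArg Subtype.val hij
    rw [ConjClasses.mk_eq_mk_iff_isConj] at h1
    have h3 := (QuotientGroup.kerLift π).map_isConj h1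
    rw [hlift, hlift, hs, hs] at h3
    exact Subtype.ext (nonconj _ _ h3)
  · rintro ⟨C, g, rfl, hg⟩
    obtain ⟨j, hj⟩ := cover (π g)
    have hb : bad (rp j).i = false := by
      rw [← Bool.not_eq_true]
      intro h
      exact not_good (φ := φ) hπ hq hl ((fused_R j h).conj hj) hg
    refine ⟨⟨j, hb⟩, Subtype.ext ?_⟩
    change ConjClasses.mk (s (Ru.R j) : E ⧸ π.ker) = ConjClasses.mk (g : E ⧸ π.ker)
    rw [ConjClasses.mk_eq_mk_iff_isConj]
    obtain ⟨c, hcj⟩ := isConj_iff.1 hj
    rw [isConj_iff]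
    refine ⟨((s c : E) : E ⧸ π.ker), ?_⟩
    rw [← QuotientGroup.mk_inv, ← QuotientGroup.mk_mul, ← QuotientGroup.mk_mul]
    apply hmk
    rw [map_mul, map_mul, map_inv, hs, hs, hcj]

end

end Cfsg.Agent.H300.RIM
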