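import Cfsg.Agent.H300.RIM.RuChi

/-!
# Classes of the Rudvalis group whose lifts to the double cover are conjugate to their negatives (helper300, S4816)

* `comm_test` : if `f`, `g` in `fourRu` commute then a product of four Hermitian products of minimal vectors is real;
* `Fused h` : some element commutes with `h` but its lifts do not commute with the lifts of `h`;
* `fused_R` : the eleven classes.
-/

set_option autoImplicit false
set_option maxRecDepth 100000
set_option exponentiation.threshold 5000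

namespace Cfsg.Agent.H300.RIM

open Cfsg Cfsg.Spor Cfsg.Agent.SporadicB Cfsg.Agent.SporadicB.RuOrder Cfsg.Agent.H300 Cfsg.Agent.H300.Ru
open Cfsg.Agent.H289.Eight.RuRep Cfsg.Agent.H289.Eight.RuDeg Cfsg.Agent.RuLat Cfsg.Agent.SporadicB.RuData
open Cfsg.Agent.SporRec.TCUpperCert Cfsg.Agent.RuD.Letters

/-! ### the test -/

theorem im_of (f : fourRu) (i : Fin 4060) : ∃ e : ℕ, ((f.1 (lv i) : ruLattice) : RuVec) =
    gI ^ e • vec (((q f : H) : Equiv.Perm (Fin 4060)) i) := by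
  obtain ⟨e, -, h⟩ := RuLat.Main.hyp.im_spec f i
  exact ⟨e, h⟩

theorem coe_lv (i : Fin 4060) : ((lv i : ruLattice) : RuVec) = vec i := rfl

theorem herm_rot (a b : ℕ) (x y : RuVec) : herm (gI ^ a • x) (gI ^ b • y) = gI ^ a * star (gI ^ b) * herm x y := by
  rw [herm_smul_left, herm_smul_right, mul_assoc]

theorem apply_rot (f : fourRu) (b : ℕ) (i j : Fin 4060) (v : ruLattice) (hv : ((v : ruLattice) : RuVec) = gI ^ b • vec i)
    {a : ℕ} (ha : ((f.1 (lv i) : ruLattice) : RuVec) = gI ^ a • vec j) :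
    ((f.1 v : ruLattice) : RuVec) = (gI ^ b * gI ^ a) • vec j := by
  have h := four_smul f.2 (gI ^ b) (vec i) (RuLat.Main.hyp.mem i)
  have e : v = ⟨gI ^ b • vec i, smul_mem _ (RuLat.Main.hyp.mem i)⟩ := Subtype.ext hv
  rw [e, h]
  change gI ^ b • ((f.1 (lv i) : ruLattice) : RuVec) = _
  rw [ha, smul_smul]

theorem comm_test {f g : fourRu} (hfg : f * g = g * f) (i si ti w : Fin 4060)
    (h1 : ((q f : H) : Equiv.Perm (Fin 4060)) i = si) (h2 : ((q g : H) : Equiv.Perm (Fin 4060)) i = ti)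
    (h3 : ((q f : H) : Equiv.Perm (Fin 4060)) ti = w) :
    herm (vec i) (vec si) * herm (vec ti) (vec i) = herm (vec ti) (vec w) * herm (vec w) (vec si) := by
  have h4 : ((q g : H) : Equiv.Perm (Fin 4060)) si = w := by
    rw [← h3, ← h2, ← h1]
    have h5 : q f * q g = q g * q f := by rw [← map_mul, ← map_mul, hfg]
    exact (congrArg (fun z : H => (z : Equiv.Perm (Fin 4060)) i) h5).symm
  obtain ⟨a, ha⟩ := im_of f i
  obtain ⟨a', ha'⟩ := im_of f ti
  obtain ⟨b, hb⟩ := im_of g i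
  obtain ⟨b', hb'⟩ := im_of g si
  rw [h1] at ha
  rw [h2] at hb
  rw [h3] at ha'
  rw [h4] at hb'
  -- the two products
  have e1 : ((f.1 (g.1 (lv i)) : ruLattice) : RuVec) = (gI ^ b * gI ^ a') • vec w := apply_rot f b ti w _ hb ha'
  have e2 : ((g.1 (f.1 (lv i)) : ruLattice) : RuVec) = (gI ^ a * gI ^ b') • vec w := apply_rot g a si w _ ha hb'
  have e3 : f.1 (g.1 (lv i)) = g.1 (f.1 (lv i)) := by
    have := congrArg (fun z : fourRu => z.1 (lv i)) hfg
    exact this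
  have e4 : gI ^ b * gI ^ a' = gI ^ a * gI ^ b' := by
    have h5 : (gI ^ b * gI ^ a' - gI ^ a * gI ^ b') * herm (vec w) (vec w) = 0 := by
      rw [sub_mul, ← herm_smul_left, ← herm_smul_left, ← e1, ← e2, e3, sub_self]
    rcases mul_eq_zero.1 h5 with h6 | h6
    · exact sub_eq_zero.1 h6
    · exact absurd h6 (RuLat.Main.hyp.herm_self_ne w)
  have hA : herm (vec i) (vec si) = gI ^ b * star (gI ^ b') * herm (vec ti) (vec w) := by
    rw [← herm_rot, ← hb, ← hb', four_herm g.2]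
    rfl
  have hC : herm (vec ti) (vec i) = gI ^ a' * star (gI ^ a) * herm (vec w) (vec si) := by
    rw [← herm_rot, ← ha, ← ha', four_herm f.2]
    rfl
  rw [hA, hC]
  have k1 : gI ^ a * star (gI ^ a) = 1 := by rw [star_pow]; exact gI_pow_mul_star a
  have k2 : gI ^ b' * star (gI ^ b') = 1 := by rw [star_pow]; exact gI_pow_mul_star b'
  calc gI ^ b * star (gI ^ b') * herm (vec ti) (vec w) * (gI ^ a' * star (gI ^ a) * herm (vec w) (vec si))
      = (gI ^ b * gI ^ a') * (star (gI ^ b') * star (gI ^ a)) * (herm (vec ti) (vec w) * herm (vec w) (vec si)) := by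
        ring
    _ = (gI ^ a * star (gI ^ a)) * (gI ^ b' * star (gI ^ b')) * (herm (vec ti) (vec w) * herm (vec w) (vec si)) := by
        rw [e4]; ring
    _ = _ := by rw [k1, k2, one_mul, one_mul]

/-! ### the check -/

noncomputable def rotEq (e a b c d : ℕ) : Bool :=
  hermEq (packL 0 a planes) (scaleN a) (packL 0 b planes) (scaleN b) (packL e c planes) (scaleN c) (packL 0 d planes)
    (scaleN d)

theorem rotEq_sound {e a b c d : ℕ} (h : rotEq e a b c d = true) :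
    herm (vec a) (vec b) = gI ^ e * herm (vec c) (vec d) := by
  have h1 := hermEq_sound h
  rw [decv_packL, decv_packL, decv_packL, decv_packL, pow_zero, one_smul, one_smul, one_smul, herm_smul_left] at h1
  exact h1

/-- `w2 ⁻¹ x w2` and `w1 ⁻¹ x w1` map `b` to `c` -/
noncomputable def chkB4 (x w1 w2 : List ℕ) (b c : ℕ) : Bool :=
  Nat.beq (evT w2 c) (evT x (evT w2 b)) && Nat.beq (evT w1 c) (evT x (evT w1 b)) && Nat.blt c 4060

noncomputable def chkS (x w1 w2 : List ℕ) (j e1 e2 : ℕ) : Bool :=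
  rotEq e1 (evT w2 j) (evT x (evT w2 j)) (evT w1 j) (evT x (evT w1 j)) &&
  rotEq e2 (evT w1 j) (evT w2 j) (evT x (evT w1 j)) (evT x (evT w2 j)) &&
  !(Nat.testBit (row (evT w2 j)) (evT x (evT w2 j))) && !(Nat.testBit (row (evT w1 j)) (evT w2 j)) &&
  Nat.blt j 4060 && Nat.beq (Nat.mod (Nat.add e1 e2) 4) 2

noncomputable def chkF (x w1 w2 : List ℕ) (j e1 e2 c1 c2 c3 c4 : ℕ) : Bool :=
  chkS x w1 w2 j e1 e2 && chkB4 x w1 w2 0 c1 && chkB4 x w1 w2 29 c2 && chkB4 x w1 w2 580 c3 &&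
    chkB4 x w1 w2 577 c4 && okW x && okW w1 && okW w2

/-- `h` commutes with an element whose lifts do not commute with the lifts of `h` -/
def Fused (h : H) : Prop := ∃ t : H, t * h = h * t ∧ ∀ f g : fourRu, q f = h → q g = t → f * g ≠ g * f

theorem chkB4_sound {x w1 w2 : List ℕ} {b c : ℕ} (hx : okW x = true) (h1 : okW w1 = true) (h2 : okW w2 = true)
    (h : chkB4 x w1 w2 b c = true) (hb : b < 4060) :
    ((((wprod ml w2 : H)⁻¹ * wprod ml x * wprod ml w2 : H)) : Equiv.Perm (Fin 4060)) ⟨b, hb⟩ =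
      ((((wprod ml w1 : H)⁻¹ * wprod ml x * wprod ml w1 : H)) : Equiv.Perm (Fin 4060)) ⟨b, hb⟩ := by
  rw [chkB4, Bool.and_eq_true, Bool.and_eq_true] at h
  obtain ⟨⟨e1, e2⟩, e3⟩ := h
  have hc : c < 4060 := by rwa [Nat.blt_eq] at e3
  have key : ∀ w : List ℕ, okW w = true → Nat.beq (evT w c) (evT x (evT w b)) = true →
      ((((wprod ml w : H)⁻¹ * wprod ml x * wprod ml w : H)) : Equiv.Perm (Fin 4060)) ⟨b, hb⟩ = ⟨c, hc⟩ := by
    intro w hw he
    change ((wprod ml w : H) : Equiv.Perm (Fin 4060))⁻¹ (((wprod ml x : H) : Equiv.Perm (Fin 4060))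
      (((wprod ml w : H) : Equiv.Perm (Fin 4060)) ⟨b, hb⟩)) = ⟨c, hc⟩
    rw [Equiv.Perm.inv_eq_iff_eq]
    apply Fin.ext
    rw [evT_eq hw]
    have h3 := evT_eq hx (((wprod ml w : H) : Equiv.Perm (Fin 4060)) ⟨b, hb⟩)
    rw [evT_eq hw] at h3
    rw [h3]
    exact (Nat.eq_of_beq_eq_true he).symm
  rw [key w2 h2 e1, key w1 h1 e2]

theorem fused_of {x w1 w2 : List ℕ} {j e1 e2 c1 c2 c3 c4 : ℕ} (h : chkF x w1 w2 j e1 e2 c1 c2 c3 c4 = true) :
    Fused (wprod ml x) := by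
  rw [chkF, Bool.and_eq_true, Bool.and_eq_true, Bool.and_eq_true, Bool.and_eq_true, Bool.and_eq_true,
    Bool.and_eq_true, Bool.and_eq_true] at h
  obtain ⟨⟨⟨⟨⟨⟨⟨hS, hb1⟩, hb2⟩, hb3⟩, hb4⟩, hx⟩, hw1⟩, hw2⟩ := h
  rw [chkS, Bool.and_eq_true, Bool.and_eq_true, Bool.and_eq_true, Bool.and_eq_true, Bool.and_eq_true] at hS
  obtain ⟨⟨⟨⟨⟨r1, r2⟩, n1⟩, n2⟩, hj⟩, he⟩ := hS
  have hj' : j < 4060 := by rwa [Nat.blt_eq] at hj
  set X := (wprod ml x : H) with hX
  set W1 := (wprod ml w1 : H) with hW1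
  set W2 := (wprod ml w2 : H) with hW2
  have hconj : W2⁻¹ * X * W2 = W1⁻¹ * X * W1 := by
    apply Subtype.ext
    exact eq_of_base (W2⁻¹ * X * W2 : H).2 (W1⁻¹ * X * W1 : H).2
      (chkB4_sound hx hw1 hw2 hb1 _) (chkB4_sound hx hw1 hw2 hb2 _) (chkB4_sound hx hw1 hw2 hb3 _)
      (chkB4_sound hx hw1 hw2 hb4 _)
  have hcomm : (W1 * W2⁻¹) * X = X * (W1 * W2⁻¹) := by
    calc (W1 * W2⁻¹) * X = W1 * (W2⁻¹ * X * W2) * W2⁻¹ := by group
      _ = W1 * (W1⁻¹ * X * W1) * W2⁻¹ := by rw [hconj]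
      _ = _ := by group
  refine ⟨W1 * W2⁻¹, hcomm, fun f g hf hg hfg => ?_⟩
  -- the points
  set J : Fin 4060 := ⟨j, hj'⟩ with hJ
  set i : Fin 4060 := (W2 : Equiv.Perm (Fin 4060)) J with hi
  set ti : Fin 4060 := (W1 : Equiv.Perm (Fin 4060)) J with hti
  set si : Fin 4060 := (X : Equiv.Perm (Fin 4060)) i with hsi
  set w : Fin 4060 := (X : Equiv.Perm (Fin 4060)) ti with hw
  have vi : (i : ℕ) = evT w2 j := evT_eq hw2 J
  have vti : (ti : ℕ) = evT w1 j := evT_eq hw1 J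
  have vsi : (si : ℕ) = evT x (evT w2 j) := by rw [hsi, evT_eq hx, vi]
  have vw : (w : ℕ) = evT x (evT w1 j) := by rw [hw, evT_eq hx, vti]
  have t1 : ((q g : H) : Equiv.Perm (Fin 4060)) i = ti := by
    rw [hg]
    change (W1 : Equiv.Perm (Fin 4060)) (((W2 : Equiv.Perm (Fin 4060)))⁻¹ ((W2 : Equiv.Perm (Fin 4060)) J)) = ti
    rw [Equiv.Perm.inv_def, Equiv.symm_apply_apply]
  have h1 := comm_test hfg i si ti w (by rw [hf]) t1 (by rw [hf])
  have h2 : herm (vec i) (vec si) = gI ^ e1 * herm (vec ti) (vec w) := by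
    rw [vi, vsi, vti, vw]
    exact rotEq_sound r1
  have h3 : herm (vec ti) (vec i) = gI ^ e2 * herm (vec w) (vec si) := by
    rw [vi, vsi, vti, vw]
    exact rotEq_sound r2
  have g4 : gI ^ 4 = 1 := gI_pow_four
  have h4 : gI ^ e1 * gI ^ e2 = -1 := by
    rw [← pow_add]
    have h5 : (e1 + e2) % 4 = 2 := Nat.eq_of_beq_eq_true he
    rw [← Nat.div_add_mod (e1 + e2) 4, h5, pow_add, pow_mul, g4, one_pow, one_mul, pow_two, gI_mul_self]
  have z1 : herm (vec i) (vec si) ≠ 0 := by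
    rw [Ne, RuLat.Main.hyp.orth, vi, vsi]
    simpa using n1
  have z2 : herm (vec ti) (vec i) ≠ 0 := by
    rw [Ne, RuLat.Main.hyp.orth, vi, vti]
    simpa using n2
  have h5 : herm (vec i) (vec si) * herm (vec ti) (vec i) =
      -(herm (vec ti) (vec w) * herm (vec w) (vec si)) := by
    rw [h2, h3]
    calc gI ^ e1 * herm (vec ti) (vec w) * (gI ^ e2 * herm (vec w) (vec si)) =
        (gI ^ e1 * gI ^ e2) * (herm (vec ti) (vec w) * herm (vec w) (vec si)) := by ring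
      _ = _ := by rw [h4]; ring
  have h6 : herm (vec i) (vec si) * herm (vec ti) (vec i) = 0 := by
    rw [← h1] at h5
    have h7 : (2 : GaussianInt) * (herm (vec i) (vec si) * herm (vec ti) (vec i)) = 0 := by
      linear_combination h5
    rcases mul_eq_zero.1 h7 with h8 | h8
    · exact absurd h8 (by decide)
    · exact h8
  rcases mul_eq_zero.1 h6 with h8 | h8
  · exact z1 h8
  · exact z2 h8

theorem ck1 : chkF [0] [4, 0] [4] 2 3 3 3592 2737 3830 3726 = true := by decide +kernel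
theorem ck4 : chkF [7, 8, 5, 0, 3, 6] [1, 7, 4, 5, 0, 3] [0, 7, 4, 5, 3, 1] 7 3 3 3427 3225 3456 2785 = true := by decide +kernel
theorem ck5 : chkF [1, 0] [4, 0] [4] 12 0 2 1056 1037 1543 3808 = true := by decide +kernel
theorem ck12 : chkF [5, 3] [8, 0, 5, 3, 4, 2, 0] [1, 7, 5, 7, 6, 4] 2 1 1 1567 2285 648 2361 = true := by decide +kernel
theorem ck15 : chkF [3, 6, 0, 2] [4, 0] [4] 2 2 0 1385 1257 1773 1293 = true := by decide +kernel
theorem ck20 : chkF [0, 3] [4, 0] [4] 2 0 2 2582 1121 1622 2466 = true := by decide +kernel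
theorem ck26 : chkF [3, 5, 0] [5, 3, 6, 7, 5, 0, 4] [5, 7, 2, 6, 7, 5, 0] 2 1 1 2984 2133 3959 3059 = true := by decide +kernel

theorem Fused.of_pow {h h' : H} {m k : ℕ} (hf : Fused h) (h1 : h = h' ^ m) (h2 : h' = h ^ k) : Fused h' := by
  obtain ⟨t, ht, hn⟩ := hf
  refine ⟨t, ?_, fun f g hf hg hfg => ?_⟩
  · rw [h2]
    exact (Commute.pow_right (show Commute t h from ht) k).eq
  · refine hn (f ^ m) g ?_ hg ?_
    · rw [map_pow, hf, h1]
    · exact (Commute.pow_left (show Commute f g from hfg) m).eq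

theorem Fused.conj {h h' : H} (hf : Fused h) (hc : IsConj h h') : Fused h' := by
  obtain ⟨c, rfl⟩ := isConj_iff.1 hc
  obtain ⟨t, ht, hn⟩ := hf
  obtain ⟨C, hC⟩ := q_surj c
  refine ⟨c * t * c⁻¹, ?_, fun f g hf hg hfg => ?_⟩
  · calc c * t * c⁻¹ * (c * h * c⁻¹) = c * (t * h) * c⁻¹ := by group
      _ = c * (h * t) * c⁻¹ := by rw [ht]
      _ = _ := by group
  · refine hn (C⁻¹ * f * C) (C⁻¹ * g * C) ?_ ?_ ?_
    · rw [map_mul, map_mul, map_inv, hf, hC]; group
    · rw [map_mul, map_mul, map_inv, hg, hC]; group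
    · calc C⁻¹ * f * C * (C⁻¹ * g * C) = C⁻¹ * (f * g) * C := by group
        _ = C⁻¹ * (g * f) * C := by rw [hfg]
        _ = _ := by group

/-- the bad families -/
def bad (i : ℕ) : Bool := [1, 4, 5, 12, 15, 20, 26].contains i

theorem fused_X {i : ℕ} (h : bad i = true) : Fused (X i) := by
  have h1 : i = 1 ∨ i = 4 ∨ i = 5 ∨ i = 12 ∨ i = 15 ∨ i = 20 ∨ i = 26 := by
    simpa [bad] using h
  rcases h1 with rfl | rfl | rfl | rfl | rfl | rfl | rfl
  · exact fused_of ck1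
  · exact fused_of ck4
  · exact fused_of ck5
  · exact fused_of ck12
  · exact fused_of ck15
  · exact fused_of ck20
  · exact fused_of ck26

theorem invOk : ∀ j : Fin 36, ∃ m : Fin 30, ((rp j).k * m) % (fm (rp j).i).n = 1 % (fm (rp j).i).n := by
  decide +kernel

theorem fused_R (j : Fin 36) (h : bad (rp j).i = true) : Fused (Ru.R j) := by
  obtain ⟨m, hm⟩ := invOk j
  refine (fused_X h).of_pow (m := m) (k := (rp j).k) ?_ rfl
  have h1 : X (rp j).i ^ (fm (rp j).i).n = 1 := by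
    rw [← order_X (rp_lt j)]
    exact pow_orderOf_eq_one _
  rw [Ru.R, ← pow_mul, pow_eq_pow_mod _ h1, hm, ← pow_eq_pow_mod _ h1, pow_one]

/-- **the eleven classes** -/
theorem fused_fam (h : H) (hb : bad (fam h) = true) : Fused h := by
  obtain ⟨j, hj⟩ := cover h
  rw [fam_eq hj] at hb
  exact (fused_R j hb).conj hj

end Cfsg.Agent.H300.RIM
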